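import Cfsg.Agent.H842.Spr.Sp8
import Cfsg.Agent.S5824

/-!
# S3938: the row `PSp_8(q)`, `q` odd
-/

set_option autoImplicit false

namespace Cfsg.Agent.H842.Spr

open Cfsg
open Cfsg.Agent.H424.Spr (Spr)

universe u

/-- **`PSp_8(q)`, `q` odd** -/
theorem spr_psp_four {F : Type u} [Field F] [Fintype F] (hodd : Odd (Fintype.card F)) : Spr (PSp 4 F) :=
  spr_of_res hodd fun H hH hS => Cfsg.Agent.S5824.result H hH hS

end Cfsg.Agent.H842.Spr
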