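import Cfsg.Agent.H424.Spr.Two
import Cfsg.Agent.H248.Cov.SpTools
import Cfsg.Agent.H16.PSp4.Bridge
import Cfsg.Agent.S0270

/-!
# S3938: `PSp_2m(q)`, `s = neg (m - 1) + J2`

`spr_of_spaces` : `y ∈ Sp_2m(q)` of prime order `r` (`q` of order `n ≥ 3` modulo `r`) with a fixed space of dimension 2;
if every maximal subgroup through `y` which contains a transvection stabilises a line or a nondegenerate plane, then
`PSp_2m(q)` satisfies `Spr`.
-/

set_option autoImplicit false
set_option linter.unusedSectionVars false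

namespace Cfsg.Agent.H842.Spr

open Cfsg Cfsg.Geo Matrix Module
open Cfsg.Agent.ClassicalGeometry.SympBasic Cfsg.Agent.H876 Cfsg.Agent.H931
open Cfsg.Agent.H262.El
open Cfsg.Agent.H248.Cov
open Cfsg.Agent.H424.Spr (Spr spr_of_two_up)
open scoped MatrixGroups

universe u

section

variable {F : Type u} [Field F] {m : ℕ}

theorem mem_stab {ι : Type} [Fintype ι] [DecidableEq ι] {W : Submodule F (ι → F)} {g : GL ι F}
    (h : g ∈ subspaceStabilizer W) : ∀ v ∈ W, (g : Matrix ι ι F) *ᵥ v ∈ W := fun v hv =>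
  (Cfsg.Agent.H918.mem_subspaceStabilizer.1 h v).1 hv

theorem le_stab {ι : Type} [Fintype ι] [DecidableEq ι] {W : Submodule F (ι → F)} {K : Subgroup (GL ι F)}
    (h : ∀ g ∈ K, ∀ v ∈ W, (g : Matrix ι ι F) *ᵥ v ∈ W) : K ≤ subspaceStabilizer W := by
  intro g hg
  refine Cfsg.Agent.H918.mem_subspaceStabilizer.2 fun v => ⟨h g hg v, fun hv => ?_⟩
  have h1 := h g⁻¹ (K.inv_mem hg) _ hv
  rwa [Matrix.mulVec_mulVec, ← Units.val_mul, inv_mul_cancel, Units.val_one, Matrix.one_mulVec] at h1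

/-- the transvection `tGL v 1` stabilises `W`: `v ∈ W` or `W ≤ v^⊥` -/
theorem mem_or_of_tGL {v : Fin m ⊕ Fin m → F} {W : Submodule F (Fin m ⊕ Fin m → F)}
    (h : tGL v (1 : F) ∈ subspaceStabilizer W) {w : Fin m ⊕ Fin m → F} (hw : w ∈ W) :
    v ∈ W ∨ sympForm m F w v = 0 := by
  by_cases h0 : sympForm m F w v = 0
  · exact Or.inr h0
  · left
    have h1 := mem_stab h w hw
    rw [tGL_mulVec, one_mul] at h1
    have h2 := W.sub_mem h1 hw
    rw [add_sub_cancel_left] at h2
    exact (W.smul_mem_iff h0).1 h2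

/-- the transvections of vectors of `W` stabilise `W` -/
theorem tGL_mem_stab {v : Fin m ⊕ Fin m → F} {W : Submodule F (Fin m ⊕ Fin m → F)} (hv : v ∈ W) (c : F) :
    tGL v c ∈ subspaceStabilizer W := by
  refine Cfsg.Agent.H918.mem_subspaceStabilizer.2 fun x => ?_
  rw [tGL_mulVec]
  exact (W.add_mem_iff_left (W.smul_mem _ hv)).symm

theorem mem_stab_fixS {ι : Type} [Fintype ι] [DecidableEq ι] (y : GL ι F) :
    y ∈ subspaceStabilizer (fixS y) := by
  refine Cfsg.Agent.H918.mem_subspaceStabilizer.2 fun x => ?_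
  constructor
  · intro hx
    rwa [mem_fixS.1 hx]
  · intro hx
    rw [mem_fixS] at hx ⊢
    have h1 := congrArg (fun v => ((y⁻¹ : GL ι F) : Matrix ι ι F) *ᵥ v) hx
    simp only [Matrix.mulVec_mulVec] at h1
    rwa [← mul_assoc, ← Units.val_mul, inv_mul_cancel, Units.val_one, Matrix.one_mulVec, one_mul] at h1

/-- central elements of `Sp` stabilise all subspaces -/
theorem center_stab (W : Submodule F (Fin m ⊕ Fin m → F)) :
    Subgroup.center (spGL m F) ≤ (subspaceStabilizer W).subgroupOf (spGL m F) := by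
  have h0 : ((Subgroup.center (spGL m F)).map (spGL m F).subtype) ≤ subspaceStabilizer W := by
    apply le_stab
    rintro _ ⟨z, hz, rfl⟩ v hv
    by_cases hv0 : v = 0
    · rw [hv0, Matrix.mulVec_zero]
      exact W.zero_mem
    obtain ⟨x, hx⟩ : ∃ x, sympForm m F x v ≠ 0 := by
      by_contra hcon
      push Not at hcon
      exact hv0 (eq_zero_of_forall_sympForm_left hcon)
    have h1 := (Subgroup.mem_center_iff.1 hz) ⟨tGL v 1, tGL_mem _ _⟩
    have h2 := congrArg (fun g : spGL m F => (((g : GL (Fin m ⊕ Fin m) F) : Matrix (Fin m ⊕ Fin m) (Fin m ⊕ Fin m) F)) *ᵥ x) h1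
    have h3 : ((tGL v (1 : F) : GL (Fin m ⊕ Fin m) F) : Matrix (Fin m ⊕ Fin m) (Fin m ⊕ Fin m) F) *ᵥ
        (((z : GL (Fin m ⊕ Fin m) F) : Matrix (Fin m ⊕ Fin m) (Fin m ⊕ Fin m) F) *ᵥ x) =
        ((z : GL (Fin m ⊕ Fin m) F) : Matrix (Fin m ⊕ Fin m) (Fin m ⊕ Fin m) F) *ᵥ
        (((tGL v (1 : F) : GL (Fin m ⊕ Fin m) F) : Matrix (Fin m ⊕ Fin m) (Fin m ⊕ Fin m) F) *ᵥ x) := by
      rw [Matrix.mulVec_mulVec, Matrix.mulVec_mulVec]
      exact h2
    rw [tGL_mulVec, tGL_mulVec, Matrix.mulVec_add, Matrix.mulVec_smul, one_mul, one_mul] at h3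
    have h4 := add_left_cancel h3
    have h5 : ((z : GL (Fin m ⊕ Fin m) F) : Matrix (Fin m ⊕ Fin m) (Fin m ⊕ Fin m) F) *ᵥ v =
        (sympForm m F x v)⁻¹ • (sympForm m F (((z : GL (Fin m ⊕ Fin m) F) : Matrix (Fin m ⊕ Fin m) (Fin m ⊕ Fin m) F) *ᵥ x) v • v) := by
      rw [h4, smul_smul, inv_mul_cancel₀ hx, one_smul]
    change ((z : GL (Fin m ⊕ Fin m) F) : Matrix (Fin m ⊕ Fin m) (Fin m ⊕ Fin m) F) *ᵥ v ∈ W
    rw [h5]
    exact W.smul_mem _ (W.smul_mem _ hv)
  intro z hz
  exact Subgroup.mem_subgroupOf.2 (h0 ⟨z, hz, rfl⟩)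

/-- coatoms of `Sp` as subgroups of `GL` -/
theorem maxIn_of_coatom {G : Type*} [Group G] {S : Subgroup G} {H : Subgroup S} (h : IsCoatom H) :
    IsMaximalIn S (H.map S.subtype) := by
  have hle : H.map S.subtype ≤ S := by
    rintro x ⟨y, -, rfl⟩
    exact y.2
  refine ⟨lt_of_le_of_ne hle ?_, ?_⟩
  · intro he
    apply h.1
    rw [eq_top_iff]
    intro x _
    have : (x : G) ∈ H.map S.subtype := by rw [he]; exact x.2
    obtain ⟨y, hy, hyx⟩ := this
    rwa [← Subtype.ext hyx]
  · intro M h1 h2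
    have h3 : H ≤ M.subgroupOf S := by
      intro x hx
      exact Subgroup.mem_subgroupOf.2 (h1 ⟨x, hx, rfl⟩)
    have h4 : (M.subgroupOf S).map S.subtype = M := by
      rw [Subgroup.subgroupOf_map_subtype, inf_eq_left]
      exact h2
    rcases eq_or_lt_of_le h3 with h5 | h5
    · left
      rw [← h4, ← h5]
    · right
      have h6 := h.2 _ h5
      rw [← h4, h6]
      ext x
      constructor
      · rintro ⟨y, -, rfl⟩
        exact y.2
      · intro hx
        exact ⟨⟨x, hx⟩, trivial, rfl⟩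

theorem nonab [Fintype F] (hm : 3 ≤ m) : ∃ x y : PSp m F, x * y ≠ y * x := by
  have hs : IsSimpleGroup (PSp m F) := Cfsg.Agent.S0270.result m (by omega) (fun h => absurd h (by omega))
  by_contra hcon
  push Not at hcon
  have h1 := Cfsg.Agent.H16.PSp4.spGL_perfect (m := m) (F := F) (Or.inl hm)
  have h2 : (commutator (spGL m F)).map (Cfsg.Agent.H16.PSp4.prj m F) = ⊥ := by
    rw [commutator_def, Subgroup.map_commutator, Subgroup.commutator_eq_bot_iff_le_centralizer]
    intro x _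
    rw [Subgroup.mem_centralizer_iff]
    intro y _
    exact hcon y x
  rw [h1, Subgroup.map_top_of_surjective _ Cfsg.Agent.H16.PSp4.prj_surj] at h2
  exact top_ne_bot h2

end

section Main

variable {F : Type u} [Field F] [Fintype F] {m : ℕ}

/-- in a nondegenerate plane, the vectors orthogonal to `v` are the multiples of `v` -/
theorem mem_span_of_perp {U : Submodule F (Fin m ⊕ Fin m → F)} (hU : finrank F U = 2)
    (hnd : IsNondegenerateOn (sympForm m F) U) {v w : Fin m ⊕ Fin m → F} (hv : v ∈ U) (hv0 : v ≠ 0) (hw : w ∈ U)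
    (h : sympForm m F w v = 0) : w ∈ Submodule.span F {v} := by
  by_contra hcon
  -- `U = span {v, w}`
  have hli : LinearIndependent F ![v, w] := by
    rw [LinearIndependent.pair_iff' hv0]
    intro a ha
    exact hcon (Submodule.mem_span_singleton.2 ⟨a, ha⟩)
  have h1 : Submodule.span F (Set.range ![v, w]) = U := by
    apply Submodule.eq_of_le_of_finrank_eq
    · rw [Submodule.span_le]
      rintro _ ⟨i, rfl⟩
      fin_cases i
      · exact hv
      · exact hw
    · rw [finrank_span_eq_card hli, hU, Fintype.card_fin]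
  obtain ⟨⟨x, hx, hxv⟩, -⟩ := hnd v hv hv0
  apply hxv
  rw [← h1, Matrix.range_cons, Matrix.range_cons, Matrix.range_empty, Set.union_empty,
    Set.singleton_union, Submodule.mem_span_pair] at hx
  obtain ⟨a, b, rfl⟩ := hx
  rw [sympForm_add_left, sympForm_smul_left, sympForm_smul_left, sympForm_self, h, mul_zero, mul_zero, add_zero]

/-- **`s = neg (m - 1) + J2` in `PSp_2m(q)`** -/
theorem spr_of_spaces (hm : 3 ≤ m) {r n : ℕ} (h : Od (Fintype.card F) n r) (hn : 3 ≤ n)
    {y : GL (Fin m ⊕ Fin m) F} (hyS : y ∈ spGL m F) (hyr : y ^ r = 1) (hfix : finrank F (fixS y) = 2)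
    (hB : ∀ M : Subgroup (GL (Fin m ⊕ Fin m) F), IsMaximalIn (spGL m F) M → y ∈ M → (∃ x ∈ M, IsTv x) →
      ∃ W : Submodule F (Fin m ⊕ Fin m → F), W ≠ ⊥ ∧ finrank F W ≤ 2 ∧
        (finrank F W = 1 ∨ IsNondegenerateOn (sympForm m F) W) ∧ M ≤ subspaceStabilizer W) : Spr (PSp m F) := by
  obtain ⟨p, hchar⟩ := CharP.exists F
  have hp : p.Prime := CharP.char_is_prime F p
  have hpf : Fact p.Prime := ⟨hp⟩
  have hrF := cast_ne_zero_of_od h
  have hs : IsSimpleGroup (PSp m F) := Cfsg.Agent.S0270.result m (by omega) (fun h => absurd h (by omega))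
  have hfin : Finite (GL (Fin m ⊕ Fin m) F) := inferInstance
  have hfin2 : Finite (PSp m F) := Finite.of_surjective _ Cfsg.Agent.H16.PSp4.prj_surj
  set U : Submodule F (Fin m ⊕ Fin m → F) := fixS y with hU
  have hnd : IsNondegenerateOn (sympForm m F) U := nd_fixS hyS hrF hyr
  have hUb : U ≠ ⊥ := by
    intro h0
    rw [h0, finrank_bot] at hfix
    omega
  obtain ⟨v, hv, hv0⟩ := (Submodule.ne_bot_iff _).1 hUb
  obtain ⟨⟨v', hv', hvv⟩, -⟩ := hnd v hv hv0
  have htv : IsTv (tGL v (1 : F)) := tGL_isTv hv0 one_ne_zero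
  -- `s`
  let y' : spGL m F := ⟨y, hyS⟩
  let τ : spGL m F := ⟨tGL v 1, tGL_mem _ _⟩
  have hyr' : y' ^ r = 1 := Subtype.ext hyr
  have hτp : τ ^ p = 1 := Subtype.ext htv.pow_char
  have hcomm : Commute y' τ := by
    have h1 : y * tGL v 1 = tGL v (1 : F) * y := by
      have h2 : (y : Matrix (Fin m ⊕ Fin m) (Fin m ⊕ Fin m) F) *ᵥ v = v := mem_fixS.1 hv
      have h3 := mul_sympTransvection (A := (y : Matrix (Fin m ⊕ Fin m) (Fin m ⊕ Fin m) F))
        (mem_symplecticGroup_iff.2 (fun u v => hyS u v)) v (1 : F)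
      rw [h2] at h3
      exact Units.ext h3
    exact Subtype.ext h1
  have hrp : Nat.Coprime p r := by
    rw [Nat.coprime_primes hp h.prime]
    rintro rfl
    exact hrF (CharP.cast_eq_zero F p)
  have key : ∀ K : Subgroup (spGL m F), y' * τ ∈ K → y' ∈ K ∧ τ ∈ K := by
    intro K hK
    have h1 : (y' * τ) ^ p = y' ^ p := by rw [hcomm.mul_pow, hτp, mul_one]
    have h2 : y' ^ p ∈ K := by
      rw [← h1]
      exact K.pow_mem hK p
    have h3 : y' ∈ K := by
      have h4 : y' ∈ Subgroup.zpowers (y' ^ p) := by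
        rw [mem_zpowers_pow_iff]
        exact Nat.Coprime.coprime_dvd_right (orderOf_dvd_of_pow_eq_one hyr') hrp
      exact (Subgroup.zpowers_le.2 h2) h4
    refine ⟨h3, ?_⟩
    have h4 := K.mul_mem (K.inv_mem h3) hK
    rwa [inv_mul_cancel_left] at h4
  refine spr_of_two_up (L := PSp m F) (nonab hm) (Cfsg.Agent.H16.PSp4.prj m F) Cfsg.Agent.H16.PSp4.prj_surj
    (s := y' * τ)
    (M₁ := (subspaceStabilizer (Submodule.span F {v})).subgroupOf (spGL m F))
    (M₂ := (subspaceStabilizer U).subgroupOf (spGL m F))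
    (Cfsg.Agent.H16.PSp4.prj_ker.trans (center_stab _)) (Cfsg.Agent.H16.PSp4.prj_ker.trans (center_stab _)) ?_ ?_ ?_ ?_
  · intro htop
    rw [Subgroup.subgroupOf_eq_top] at htop
    rcases mem_or_of_tGL (htop (tGL_mem v' 1)) (Submodule.mem_span_singleton_self v) with h1 | h1
    · obtain ⟨c, rfl⟩ := Submodule.mem_span_singleton.1 h1
      rw [sympForm_smul_left, sympForm_self, mul_zero] at hvv
      exact hvv rfl
    · apply hvv
      rw [sympForm_swap, h1, neg_zero]
  · intro htop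
    rw [Subgroup.subgroupOf_eq_top] at htop
    have hnt : U ≠ ⊤ := by
      intro h0
      rw [h0, finrank_top, Module.finrank_fintype_fun_eq_card] at hfix
      simp at hfix
      omega
    obtain ⟨z, hz⟩ : ∃ z, z ∉ U := by
      by_contra hcon
      push Not at hcon
      exact hnt (eq_top_iff.2 fun z _ => hcon z)
    by_cases hzv : sympForm m F v z = 0
    · rcases mem_or_of_tGL (htop (tGL_mem (v' + z) 1)) hv with h1 | h1
      · exact hz ((U.add_mem_iff_right hv').1 h1)
      · rw [sympForm_add_right, hzv, add_zero] at h1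
        apply hvv
        rw [sympForm_swap, h1, neg_zero]
    · rcases mem_or_of_tGL (htop (tGL_mem z 1)) hv with h1 | h1
      · exact hz h1
      · exact hzv h1
  · intro g hg
    exfalso
    set x₀ : Fin m ⊕ Fin m → F := ((g : GL (Fin m ⊕ Fin m) F) : Matrix (Fin m ⊕ Fin m) (Fin m ⊕ Fin m) F) *ᵥ v with hx₀
    have hx0 : x₀ ≠ 0 := by
      intro h0
      apply hv0
      have h1 := congrArg (fun v => (((g : GL (Fin m ⊕ Fin m) F)⁻¹ : GL (Fin m ⊕ Fin m) F) :
        Matrix (Fin m ⊕ Fin m) (Fin m ⊕ Fin m) F) *ᵥ v) h0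
      rwa [hx₀, Matrix.mulVec_mulVec, ← Units.val_mul, inv_mul_cancel, Units.val_one, Matrix.one_mulVec,
        Matrix.mulVec_zero] at h1
    -- `⟨g v⟩` is stable under `M₂`
    have hst : ∀ x ∈ subspaceStabilizer U, x ∈ spGL m F →
        (x : Matrix (Fin m ⊕ Fin m) (Fin m ⊕ Fin m) F) *ᵥ x₀ ∈ Submodule.span F {x₀} := by
      intro x hx hxS
      have h1 : (⟨x, hxS⟩ : spGL m F) ∈ ((subspaceStabilizer (Submodule.span F {v})).subgroupOf (spGL m F)).map
          (MulAut.conj g).toMonoidHom := by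
        rw [hg]
        exact Subgroup.mem_subgroupOf.2 hx
      obtain ⟨z, hz, hzx⟩ := h1
      have hzx' : (g : GL (Fin m ⊕ Fin m) F) * z * (g : GL (Fin m ⊕ Fin m) F)⁻¹ = x := congrArg Subtype.val hzx
      obtain ⟨c, hc⟩ := Submodule.mem_span_singleton.1
        (mem_stab (Subgroup.mem_subgroupOf.1 hz) v (Submodule.mem_span_singleton_self v))
      have h2 : (x : Matrix (Fin m ⊕ Fin m) (Fin m ⊕ Fin m) F) *ᵥ x₀ = c • x₀ := by
        rw [hx₀, Matrix.mulVec_mulVec, ← Units.val_mul, ← hzx', inv_mul_cancel_right, Units.val_mul,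
          ← Matrix.mulVec_mulVec, ← hc, Matrix.mulVec_smul]
      rw [h2]
      exact Submodule.smul_mem _ _ (Submodule.mem_span_singleton_self _)
    have hxU : x₀ ∈ U := by
      have h1 : Submodule.span F {x₀} ≤ fixS y := by
        refine le_fixS h hyr ?_ ?_
        · intro w hw
          obtain ⟨c, rfl⟩ := Submodule.mem_span_singleton.1 hw
          rw [Matrix.mulVec_smul]
          exact Submodule.smul_mem _ _ (hst y (mem_stab_fixS y) hyS)
        · rw [finrank_span_singleton hx0]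
          omega
      exact h1 (Submodule.mem_span_singleton_self _)
    obtain ⟨-, ⟨u, hu, hux⟩⟩ := hnd x₀ hxU hx0
    have h1 := hst _ (tGL_mem_stab hu 1) (tGL_mem u 1)
    rw [tGL_mulVec, one_mul] at h1
    have h2 := Submodule.sub_mem _ h1 (Submodule.mem_span_singleton_self x₀)
    rw [add_sub_cancel_left] at h2
    obtain ⟨c, rfl⟩ := Submodule.mem_span_singleton.1 ((Submodule.smul_mem_iff _ hux).1 h2)
    apply hux
    rw [sympForm_smul_right, sympForm_self, mul_zero]
  · intro K _ hK hKt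
    obtain ⟨H, hH, hKH⟩ := (eq_top_or_exists_le_coatom K).resolve_left hKt
    obtain ⟨k1, k2⟩ := key K hK
    obtain ⟨W, w1, w2, w3, w4⟩ := hB (H.map (spGL m F).subtype) (maxIn_of_coatom hH) ⟨y', hKH k1, rfl⟩
      ⟨_, ⟨τ, hKH k2, rfl⟩, htv⟩
    have hKW : K ≤ (subspaceStabilizer W).subgroupOf (spGL m F) := fun x hx =>
      Subgroup.mem_subgroupOf.2 (w4 ⟨x, hKH hx, rfl⟩)
    have hWU : W ≤ U := le_fixS h hyr (mem_stab (Subgroup.mem_subgroupOf.1 (hKW k1))) (by omega)
    by_cases hd : finrank F W = 2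
    · right
      have h1 : W = U := Submodule.eq_of_le_of_finrank_eq hWU (by rw [hd, hfix])
      rwa [← h1]
    · left
      have h0 : finrank F W ≠ 0 := fun h5 => w1 (Submodule.finrank_eq_zero.1 h5)
      have hd1 : finrank F W = 1 := by omega
      obtain ⟨w, hw, hw0⟩ := (Submodule.ne_bot_iff _).1 w1
      have hvW : v ∈ W := by
        rcases mem_or_of_tGL (Subgroup.mem_subgroupOf.1 (hKW k2)) hw with h1 | h1
        · exact h1
        · obtain ⟨c, rfl⟩ := Submodule.mem_span_singleton.1 (mem_span_of_perp hfix hnd hv hv0 (hWU hw) h1)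
          have hc : c ≠ 0 := by
            rintro rfl
            exact hw0 (zero_smul _ _)
          exact (W.smul_mem_iff hc).1 hw
      have h1 : Submodule.span F {v} = W := by
        apply Submodule.eq_of_le_of_finrank_eq
        · rw [Submodule.span_singleton_le_iff_mem]
          exact hvW
        · rw [finrank_span_singleton hv0, hd1]
      rwa [h1]

end Main

end Cfsg.Agent.H842.Spr
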