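import Cfsg.Agent.H842.Spr.Sp
import Cfsg.Agent.H248.Cov.Sp8

/-!
# S3938: `PSp_8(q)`, `q` odd

`spr_of_res` : `Spr (PSp 4 F)`, `q` odd, from S5823 and (as a hypothesis) S5824.
-/

set_option autoImplicit false
set_option linter.unusedSectionVars false

namespace Cfsg.Agent.H842.Spr

open Cfsg Cfsg.Geo Matrix Module
open Cfsg.Agent.H262.El
open Cfsg.Agent.H248.Cov
open Cfsg.Agent.H424.Spr (Spr)
open scoped MatrixGroups

universe u

/-- **`PSp_8(q)`, `q` odd, modulo S5824** -/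
theorem spr_of_res {F : Type u} [Field F] [Fintype F] (hodd : Odd (Fintype.card F))
    (h24 : ∀ H : Subgroup (GL (Fin 4 ⊕ Fin 4) F),
      IsMaximalIn (spGL 4 F) H → InSymplecticResidualClass H → Res24 F H) : Spr (PSp 4 F) := by
  obtain ⟨p, hchar⟩ := CharP.exists F
  have hp : p.Prime := CharP.char_is_prime F p
  have hpf : Fact p.Prime := ⟨hp⟩
  obtain ⟨a, ha, hF⟩ : ∃ a : ℕ, 1 ≤ a ∧ Fintype.card F = p ^ a := by
    obtain ⟨n, -, hn⟩ := FiniteField.card F p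
    exact ⟨n, n.pos, hn⟩
  have hp2 : p ≠ 2 := by
    rintro rfl
    rw [hF] at hodd
    rcases Nat.odd_pow_iff (by omega) |>.1 hodd with ⟨k, hk⟩
    omega
  have hι : Fintype.card (Fin 4 ⊕ Fin 4) = 8 := by simp
  obtain ⟨r6, h6⟩ := exists_r6 hp hp2 ha
  have o6 := od_of_pp hF ha (by norm_num) h6
  have f6 := Fact.mk h6.prime
  have hfin : Finite (GL (Fin 4 ⊕ Fin 4) F) := inferInstance
  obtain ⟨x6, hx6⟩ := exists_prime_orderOf_dvd_card' (G := spGL 4 F) r6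
    (dvd_card_spGL (by norm_num) o6 (k := 3) dvd_rfl (by norm_num) (by norm_num))
  have hr : (x6 : GL (Fin 4 ⊕ Fin 4) F) ^ r6 = 1 := by
    rw [← Subgroup.coe_pow, ← hx6, pow_orderOf_eq_one]; rfl
  have h1 : (x6 : GL (Fin 4 ⊕ Fin 4) F) ≠ 1 := by
    intro h1
    have h2 : x6 = 1 := Subtype.ext h1
    rw [h2, orderOf_one] at hx6
    exact h6.prime.one_lt.ne hx6
  refine spr_of_spaces (by norm_num) o6 (by norm_num) x6.2 hr (fixS_eq_two o6 hι hr h1) ?_
  rintro M hM hyM ⟨t, ht, htt⟩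
  rcases classB hp hchar ha hF hodd hp2 h6 h24 hM hyM hr h1 with h | h
  · exact h
  · exact absurd htt (h t ht)

end Cfsg.Agent.H842.Spr
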